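import Groth.Agent.Lib.FibreDimAt6.Smooth
import Groth.Agent.Lib.NoethTop.KrullDim
import Groth.Agent.Lib.Chev28.TFAE
import Mathlib.AlgebraicGeometry.Morphisms.Smooth
import Mathlib.AlgebraicGeometry.Fiber

/-!
# Relative dimensions of smooth morphisms
-/

universe u

open CategoryTheory CategoryTheory.Limits AlgebraicGeometry TopologicalSpace

noncomputable section

namespace GrothLib.Transversal

theorem relDim_unique {X Y : Scheme.{u}} (f : X ⟶ Y) (n m : ℕ) [SmoothOfRelativeDimension n f]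
    [SmoothOfRelativeDimension m f] (x : X) : n = m := by
  have h := (FibreDimAt6.fibreDimAt_eq_of_smooth n f x).symm.trans
    (FibreDimAt6.fibreDimAt_eq_of_smooth m f x)
  exact_mod_cast h

/-- A smooth morphism has a relative dimension near each point. -/
theorem exists_local {X Y : Scheme.{u}} (f : X ⟶ Y) [Smooth f] (x : X) :
    ∃ U : X.Opens, x ∈ U ∧ ∃ n : ℕ, SmoothOfRelativeDimension n (U.ι ≫ f) := by
  obtain ⟨W, hW, V, hV, hx, e, hstd⟩ := Smooth.exists_isStandardSmooth f x
  algebraize [(f.appLE W V e).hom]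
  obtain ⟨ι, σ, hσ, hι, ⟨P⟩⟩ := Algebra.IsStandardSmooth.out (R := Γ(Y, W)) (S := Γ(X, V))
  haveI hm : Algebra.IsStandardSmoothOfRelativeDimension P.dimension Γ(Y, W) Γ(X, V) :=
    ⟨ι, σ, hσ, hι, P, rfl⟩
  refine ⟨V, hx, P.dimension, ?_⟩
  rw [← Scheme.Hom.resLE_comp_ι f e]
  haveI : IsAffine V := hV
  haveI : IsAffine W := hW
  haveI : SmoothOfRelativeDimension P.dimension (f.resLE W V e) := by
    rw [HasRingHomProperty.iff_of_isAffine (P := @SmoothOfRelativeDimension P.dimension)]
    exact ((RingHom.locally_respectsIso RingHom.isStandardSmoothOfRelativeDimension_respectsIso).arrow_mk_iso_iff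
      (arrowResLEAppIso f W V e)).mpr
      (RingHom.locally_of RingHom.isStandardSmoothOfRelativeDimension_respectsIso _ hm)
  exact inferInstanceAs (SmoothOfRelativeDimension (P.dimension + 0) _)

/-- Relative dimensions subtract. -/
theorem relDim_of_comp {X Y S : Scheme.{u}} (f : X ⟶ Y) (g : Y ⟶ S) (n N : ℕ) [Smooth f]
    [SmoothOfRelativeDimension n g] [SmoothOfRelativeDimension N (f ≫ g)] :
    SmoothOfRelativeDimension (N - n) f ∧ ∀ _ : X, n ≤ N := by
  have key : ∀ x : X, ∃ U : X.Opens, x ∈ U ∧ n ≤ N ∧ SmoothOfRelativeDimension (N - n) (U.ι ≫ f) := by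
    intro x
    obtain ⟨U, hx, m, hm⟩ := exists_local f x
    haveI := hm
    haveI h1 : SmoothOfRelativeDimension (m + n) (U.ι ≫ f ≫ g) := by
      rw [← Category.assoc]; infer_instance
    haveI h2 : SmoothOfRelativeDimension (0 + N) (U.ι ≫ f ≫ g) := inferInstance
    have h3 := relDim_unique (U.ι ≫ f ≫ g) (m + n) (0 + N) ⟨x, hx⟩
    refine ⟨U, hx, by omega, ?_⟩
    rwa [show N - n = m by omega]
  choose U hU hle hsm using key
  refine ⟨?_, hle⟩
  refine IsZariskiLocalAtSource.of_iSup_eq_top (P := @SmoothOfRelativeDimension (N - n)) U ?_ hsm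
  exact top_le_iff.mp fun x _ => Opens.mem_iSup.mpr ⟨x, hU x⟩

/-- The dimension of a smooth scheme over a field is its relative dimension. -/
theorem dim_eq_of_smooth {k : Type u} [Field k] {P : Scheme.{u}} (f : P ⟶ Spec (CommRingCat.of k))
    (e : ℕ) [SmoothOfRelativeDimension e f] [hne : Nonempty P] : topologicalKrullDim ↥P = e := by
  have hloc : ∀ x : P, FlatMor.localDim ↥P x = (e : WithBot ℕ∞) := by
    intro x
    rw [← FibreDimAt6.fibreDimAt_eq_of_smooth e f x]
    have hu : f ⁻¹' {f x} = Set.univ := Set.eq_univ_of_forall fun z => Subsingleton.elim (f z) (f x)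
    let ψ : ↥(f.fiber (f x)) ≃ₜ ↥P :=
      ((f.fiberHomeo (f x)).trans (Homeomorph.setCongr hu)).trans (Homeomorph.Set.univ P)
    have hx : ψ (f.asFiber x) = x := Scheme.Hom.fiberι_fiberHomeo_symm f (f x) ⟨x, rfl⟩
    have h := GrothLib.Chev28.localDim_homeomorph ψ (f.asFiber x)
    rw [hx] at h
    exact h
  refine le_antisymm (NoethTop.dim_le_iff.mpr fun l => ?_) ?_
  · obtain ⟨x, hx⟩ := l.head.isIrreducible.nonempty
    exact (NoethTop.length_le_localDim l hx).trans (hloc x).le
  · obtain ⟨x⟩ := hne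
    exact (hloc x).ge.trans (NoethTop.localDim_le_dim x)

end GrothLib.Transversal
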