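import Groth.Agent.Lib.GenericSmooth.Basic
import Groth.Agent.Lib.ConsLim.Pair
import Mathlib.AlgebraicGeometry.Morphisms.FinitePresentation

/-!
# Generic smoothness on the target in characteristic zero
-/

universe u

open CategoryTheory CategoryTheory.Limits AlgebraicGeometry TopologicalSpace Topology

noncomputable section

namespace GrothLib.Transversal

/-- The restriction over an open inside which the morphism is smooth. -/
theorem smooth_restrict {T X : Scheme.{u}} (Φ : T ⟶ X) [LocallyOfFinitePresentation Φ] (V : X.Opens)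
    (h : Φ ⁻¹ᵁ V ≤ Φ.smoothLocus) : Smooth (Φ ∣_ V) := by
  haveI := GenericSmooth.smooth_smoothLocus_ι_comp Φ
  have e : (Φ ∣_ V) ≫ V.ι = T.homOfLE h ≫ Φ.smoothLocus.ι ≫ Φ := by
    rw [morphismRestrict_ι, Scheme.homOfLE_ι_assoc]
  have hs : Smooth ((Φ ∣_ V) ≫ V.ι) := by rw [e]; infer_instance
  exact MorphismProperty.of_postcomp @Smooth (Φ ∣_ V) V.ι (W' := @IsOpenImmersion) inferInstance hs

/-- In characteristic zero a morphism from a regular scheme is smooth over a nonempty open of an
integral target. -/
theorem exists_open_smooth_over {T X : Scheme.{u}} [IsIntegral X] [IsNoetherian X]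
    [CharZero X.functionField] (Φ : T ⟶ X) [LocallyOfFiniteType Φ] [QuasiCompact Φ]
    (hreg : ∀ t : T, IsRegularLocalRing (T.presheaf.stalk t)) :
    ∃ V : X.Opens, (V : Set X).Nonempty ∧ Smooth (Φ ∣_ V) := by
  haveI : LocallyOfFinitePresentation Φ := inferInstance
  haveI : IsLocallyNoetherian T := LocallyOfFiniteType.isLocallyNoetherian Φ
  haveI : CompactSpace T := QuasiCompact.compactSpace_of_compactSpace Φ
  haveI : IsNoetherian T := ⟨⟩
  haveI : NoetherianSpace T := inferInstance
  let F : Set T := (Φ.smoothLocus : Set T)ᶜ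
  have hη : genericPoint X ∈ (Φ '' F)ᶜ := by
    rintro ⟨t, ht, hte⟩
    have hf : IsField (X.presheaf.stalk (Φ t)) := by rw [hte]; exact Field.toIsField X.functionField
    haveI : CharZero (X.presheaf.stalk (Φ t)) :=
      charZero_of_injective_ringHom (f := (X.presheaf.stalkCongr (.of_eq hte.symm)).hom.hom)
        (ConcreteCategory.bijective_of_isIso (X.presheaf.stalkCongr (.of_eq hte.symm)).hom).1
    haveI := hreg t
    exact ht (GenericSmooth.mem_smoothLocus_of_regular Φ t hf (GenericSmooth.perfectField_of_charZero hf))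
  have hF : IsConstructible F :=
    ((NoetherianSpace.isCompact _).isConstructible Φ.smoothLocus.2).compl
  have hc : IsConstructible (Φ '' F)ᶜ := (Φ.isConstructible_image hF).compl
  refine ⟨⟨interior (Φ '' F)ᶜ, isOpen_interior⟩,
    ConsLim.interior_nonempty_of_genericPoint_mem hc hη, smooth_restrict Φ _ fun t ht => ?_⟩
  by_contra hs
  exact interior_subset ht ⟨t, hs, rfl⟩

end GrothLib.Transversal
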