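import Groth.Agent.Lib.Transversal10.Generic
import Groth.Agent.Lib.Transversal10.Dims
import Groth.Agent.Lib.GrpSchField.Shear
import Groth.Agent.Lib.GrpSchField.Criteria
import Groth.Agent.Lib.GrpSchField.Smooth
import Groth.Agent.Lib.DimCut.Product
import Groth.Agent.Lib.WeilExt.Extend

/-!
# Translates of a morphism into a homogeneous space (Kleiman)
-/

universe u

set_option backward.isDefEq.respectTransparency false
set_option linter.all false

open CategoryTheory CategoryTheory.Limits AlgebraicGeometry TopologicalSpace MonoidalCategory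
open CartesianMonoidalCategory MonObj GrpObj
open GrothLib.GrpSchField (act_mul act_one hom_ext_points₂)

noncomputable section

namespace GrothLib.Transversal

variable {k : Type u} [Field k] {G X : Over (Spec (CommRingCat.of k))} [GrpObj G]

/-- The translation by a rational point. -/
def actIso (a : AlgGrp.Action G X) (τ : 𝟙_ (Over (Spec (CommRingCat.of k))) ⟶ G) : X ≅ X where
  hom := lift (toUnit X ≫ τ) (𝟙 X) ≫ a.act
  inv := lift (toUnit X ≫ τ⁻¹) (𝟙 X) ≫ a.act
  hom_inv_id := by
    rw [← Category.assoc, comp_lift, Category.comp_id, ← Category.assoc,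
      show (lift (toUnit X ≫ τ) (𝟙 X) ≫ a.act) ≫ toUnit X = toUnit X from Subsingleton.elim _ _,
      ← act_mul, ← MonObj.comp_mul, inv_mul_cancel]
    simp [act_one]
  inv_hom_id := by
    rw [← Category.assoc, comp_lift, Category.comp_id, ← Category.assoc,
      show (lift (toUnit X ≫ τ⁻¹) (𝟙 X) ≫ a.act) ≫ toUnit X = toUnit X from Subsingleton.elim _ _,
      ← act_mul, ← MonObj.comp_mul, mul_inv_cancel]
    simp [act_one]

/-- The translation as an isomorphism of schemes. -/
def actIsoLeft (a : AlgGrp.Action G X) (τ : 𝟙_ (Over (Spec (CommRingCat.of k))) ⟶ G) : X.left ≅ X.left :=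
  (Over.forget _).mapIso (actIso a τ)

variable [IsAlgClosed k]

/-- Every closed point is translated into every nonempty open. -/
theorem exists_translate [LocallyOfFiniteType X.hom] (a : AlgGrp.Action G X)
    (htrans : ∀ x x' : 𝟙_ (Over (Spec (CommRingCat.of k))) ⟶ X,
      ∃ σ : 𝟙_ (Over (Spec (CommRingCat.of k))) ⟶ G, lift σ x ≫ a.act = x')
    (V : X.left.Opens) (hV : (V : Set X.left).Nonempty) (x : X.left) :
    ∃ τ : 𝟙_ (Over (Spec (CommRingCat.of k))) ⟶ G, (actIsoLeft a τ).hom x ∈ V := by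
  haveI := LocallyOfFiniteType.jacobsonSpace X.hom
  obtain ⟨z, hz, hzc⟩ := nonempty_inter_closedPoints (Z := closure ({x} : Set X.left))
    ⟨x, subset_closure rfl⟩ isClosed_closure.isLocallyClosed
  obtain ⟨v, hv, hvc⟩ := nonempty_inter_closedPoints hV V.2.isLocallyClosed
  let p : 𝟙_ (Over (Spec (CommRingCat.of k))) ⟶ X :=
    Over.homMk _ ((pointEquivClosedPoint X.hom).symm ⟨z, hzc⟩).2
  let p' : 𝟙_ (Over (Spec (CommRingCat.of k))) ⟶ X :=
    Over.homMk _ ((pointEquivClosedPoint X.hom).symm ⟨v, hvc⟩).2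
  have hp : p.left (IsLocalRing.closedPoint k) = z := by simp [p, pointEquivClosedPoint]
  have hp' : p'.left (IsLocalRing.closedPoint k) = v := by simp [p', pointEquivClosedPoint]
  obtain ⟨τ, hτ⟩ := htrans p p'
  refine ⟨τ, ?_⟩
  have hh : p ≫ (actIso a τ).hom = p' := by
    show p ≫ lift (toUnit X ≫ τ) (𝟙 X) ≫ a.act = p'
    rw [comp_lift_assoc, Category.comp_id, ← Category.assoc,
      show p ≫ toUnit X = 𝟙 _ from Subsingleton.elim _ _, Category.id_comp]
    exact hτ
  have hz' : (actIsoLeft a τ).hom z ∈ V := by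
    show (actIso a τ).hom.left z ∈ V
    rw [← hp, ← Scheme.Hom.comp_apply, ← Over.comp_left, hh, hp']
    exact hv
  exact (specializes_iff_mem_closure.mpr hz).mem_open
    (V.2.preimage (actIsoLeft a τ).hom.continuous) hz'

omit [IsAlgClosed k] in
/-- Smoothness over an open propagates along translations. -/
theorem smooth_of_equivariant {T : Scheme.{u}} (Φ : T ⟶ X.left) [LocallyOfFinitePresentation Φ]
    (V : X.left.Opens) [Smooth (Φ ∣_ V)]
    (h : ∀ t : T, ∃ (L : T ≅ T) (σ : X.left ≅ X.left), L.hom ≫ Φ = Φ ≫ σ.hom ∧ σ.hom (Φ t) ∈ V) :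
    Smooth Φ := by
  rw [← Scheme.Hom.smoothLocus_eq_top_iff]
  refine top_le_iff.mp fun t _ => ?_
  obtain ⟨L, σ, hL, hmem⟩ := h t
  let U : T.Opens := L.hom ⁻¹ᵁ (Φ ⁻¹ᵁ V)
  have htU : t ∈ U := by
    show Φ (L.hom t) ∈ V
    rw [← Scheme.Hom.comp_apply, hL, Scheme.Hom.comp_apply]
    exact hmem
  haveI : Smooth ((Φ ⁻¹ᵁ V).ι ≫ Φ) := by
    rw [← morphismRestrict_ι]; infer_instance
  have hs : Smooth ((U.ι ≫ Φ) ≫ σ.hom) := by
    rw [Category.assoc, ← hL, ← Category.assoc,
      show U.ι ≫ L.hom = (L.hom ∣_ (Φ ⁻¹ᵁ V)) ≫ (Φ ⁻¹ᵁ V).ι from (morphismRestrict_ι _ _).symm,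
      Category.assoc]
    infer_instance
  haveI : Smooth (U.ι ≫ Φ) :=
    MorphismProperty.of_postcomp @Smooth (U.ι ≫ Φ) σ.hom (W' := @IsOpenImmersion) inferInstance hs
  exact GrpSchField.le_smoothLocus_of_smooth Φ U.ι ⟨t, htU⟩

/-- A homogeneous space in characteristic zero is smooth. -/
theorem smooth_homogeneous [CharZero k] [IsIntegral X.left] [LocallyOfFiniteType X.hom]
    (a : AlgGrp.Action G X)
    (htrans : ∀ x x' : 𝟙_ (Over (Spec (CommRingCat.of k))) ⟶ X,
      ∃ σ : 𝟙_ (Over (Spec (CommRingCat.of k))) ⟶ G, lift σ x ≫ a.act = x') : Smooth X.hom := by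
  rw [← Scheme.Hom.smoothLocus_eq_top_iff]
  refine top_le_iff.mp fun x _ => ?_
  obtain ⟨τ, hτ⟩ := exists_translate a htrans X.hom.smoothLocus
    (Scheme.Hom.dense_smoothLocus_of_perfectField X.hom).nonempty x
  have h : x ∈ (actIsoLeft a τ).hom ⁻¹ᵁ X.hom.smoothLocus := hτ
  rw [Scheme.Hom.preimage_smoothLocus_eq] at h
  have hw : (actIsoLeft a τ).hom ≫ X.hom = X.hom := Over.w (actIso a τ).hom
  simpa [hw] using h

omit [IsAlgClosed k] in
theorem exists_relDim {Z : Scheme.{u}} (q : Z ⟶ Spec (CommRingCat.of k)) [Smooth q] [IsIntegral Z] :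
    ∃ d : ℕ, SmoothOfRelativeDimension d q := by
  obtain ⟨U, hU, d, hd⟩ := exists_local q (genericPoint Z)
  haveI := hd
  haveI : Nonempty ↥(U : Scheme.{u}) := ⟨⟨genericPoint Z, hU⟩⟩
  have h1 : topologicalKrullDim ↥U = d := dim_eq_of_smooth (U.ι ≫ q) d
  exact ⟨d, DimCut.smoothOfRelativeDimension q d ((DimCut.dim_opens_eq q U ‹_›).symm.trans h1)⟩

omit [IsAlgClosed k] [GrpObj G] in
/-- The fibre of the first projection over a rational point. -/
theorem isPullback_point (A : Over (Spec (CommRingCat.of k)))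
    (σ : 𝟙_ (Over (Spec (CommRingCat.of k))) ⟶ G) :
    IsPullback (lift (toUnit A ≫ σ) (𝟙 A)).left (toUnit A).left (fst G A).left σ.left := by
  refine IsPullback.map (Over.forget _) (?_ : IsPullback (lift (toUnit A ≫ σ) (𝟙 A)) (toUnit A) (fst G A) σ)
  refine IsPullback.of_isLimit' ⟨lift_fst _ _⟩ (PullbackCone.IsLimit.mk _
    (fun s => s.fst ≫ snd G A) (fun s => ?_) (fun s => Subsingleton.elim _ _) (fun s m h₁ _ => ?_))
  · apply CartesianMonoidalCategory.hom_ext
    · rw [Category.assoc, lift_fst, ← Category.assoc, s.condition]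
      congr 1
      exact Subsingleton.elim _ _
    · simp
  · rw [← h₁, Category.assoc, lift_snd, Category.comp_id]

variable [CharZero k] [IsIntegral G.left] [IsSeparated G.hom] [LocallyOfFiniteType G.hom]
  [QuasiCompact G.hom] [IsIntegral X.left] [IsSeparated X.hom] [LocallyOfFiniteType X.hom]
  [QuasiCompact X.hom]

/-- **Kleiman's transversality theorem.** -/
theorem transversality (a : AlgGrp.Action G X)
    (htrans : ∀ x x' : 𝟙_ (Over (Spec (CommRingCat.of k))) ⟶ X,
      ∃ σ : 𝟙_ (Over (Spec (CommRingCat.of k))) ⟶ G, lift σ x ≫ a.act = x')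
    {Y Z : Scheme.{u}} (f : Y ⟶ X.left) (g : Z ⟶ X.left)
    [IsIntegral Y] [IsSeparated (f ≫ X.hom)] [QuasiCompact (f ≫ X.hom)] [Smooth (f ≫ X.hom)]
    [IsIntegral Z] [IsSeparated (g ≫ X.hom)] [QuasiCompact (g ≫ X.hom)] [Smooth (g ≫ X.hom)]
    (n r s : ℕ) (hn : topologicalKrullDim ↥X.left = n) (hr : topologicalKrullDim ↥Y = r)
    (hs : topologicalKrullDim ↥Z = s) :
    ∃ V : G.left.Opens, (V : Set ↥G.left).Nonempty ∧
      ∀ σ : 𝟙_ (Over (Spec (CommRingCat.of k))) ⟶ G, Set.range σ.left.base ⊆ (V : Set ↥G.left) →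
        ∀ fσ : Y ⟶ X.left,
          fσ = (lift (toUnit (Over.mk (f ≫ X.hom)) ≫ σ) (Over.homMk f) ≫ a.act).left →
          Smooth (pullback.fst fσ g ≫ f ≫ X.hom) ∧
            (IsEmpty ↥(pullback fσ g) ∨ (n ≤ r + s ∧ topologicalKrullDim ↥(pullback fσ g) = ((r + s - n : ℕ) : WithBot ℕ∞))) := by
  let YY : Over (Spec (CommRingCat.of k)) := Over.mk (f ≫ X.hom)
  let fO : YY ⟶ X := Over.homMk f
  haveI hGs : Smooth G.hom := GrpSchField.smooth_of_charZero G
  haveI hXs : Smooth X.hom := smooth_homogeneous a htrans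
  obtain ⟨d, hd⟩ := exists_relDim G.hom
  haveI := hd
  haveI hXn : SmoothOfRelativeDimension n X.hom := DimCut.smoothOfRelativeDimension X.hom n hn
  haveI hYr : SmoothOfRelativeDimension r (f ≫ X.hom) := DimCut.smoothOfRelativeDimension _ r hr
  haveI hZs : SmoothOfRelativeDimension s (g ≫ X.hom) := DimCut.smoothOfRelativeDimension _ s hs
  haveI hp1 : SmoothOfRelativeDimension r (fst G YY).left :=
    (smoothOfRelativeDimension_isStableUnderBaseChange r).of_isPullback
      (IsPullback.of_hasPullback G.hom YY.hom).flip hYr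
  haveI : QuasiCompact (fst G YY).left :=
    inferInstanceAs (QuasiCompact (pullback.fst G.hom (f ≫ X.hom)))
  let qT : (G ⊗ YY).left ⟶ Spec (CommRingCat.of k) := (fst G YY).left ≫ G.hom
  haveI : SmoothOfRelativeDimension (r + d) qT := inferInstanceAs (SmoothOfRelativeDimension (r + d) (_ ≫ _))
  haveI : Smooth qT := SmoothOfRelativeDimension.smooth (r + d) qT
  haveI : QuasiCompact qT := inferInstanceAs (QuasiCompact (_ ≫ _))
  let Φ : (G ⊗ YY).left ⟶ X.left := ((G ◁ fO) ≫ a.act).left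
  have hΦ : Φ ≫ X.hom = qT := (Over.w ((G ◁ fO) ≫ a.act)).trans (Over.w (fst G YY)).symm
  haveI : LocallyOfFiniteType Φ := by
    haveI : LocallyOfFiniteType (Φ ≫ X.hom) := by rw [hΦ]; infer_instance
    exact locallyOfFiniteType_of_comp Φ X.hom
  haveI : QuasiCompact Φ := by
    haveI : QuasiCompact (Φ ≫ X.hom) := by rw [hΦ]; infer_instance
    exact QuasiCompact.of_comp Φ X.hom
  haveI : IsLocallyNoetherian X.left := LocallyOfFiniteType.isLocallyNoetherian X.hom
  haveI : CompactSpace X.left := QuasiCompact.compactSpace_of_compactSpace X.hom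
  haveI : IsNoetherian X.left := ⟨⟩
  haveI : IsLocallyNoetherian G.left := LocallyOfFiniteType.isLocallyNoetherian G.hom
  haveI : CompactSpace G.left := QuasiCompact.compactSpace_of_compactSpace G.hom
  haveI : IsNoetherian G.left := ⟨⟩
  haveI : CharZero X.left.functionField := GenericSmooth.charZero_functionField X.hom
  haveI : CharZero G.left.functionField := GenericSmooth.charZero_functionField G.hom
  -- smoothness of the swept morphism
  obtain ⟨V₁, hV₁ne, hV₁⟩ := exists_open_smooth_over Φ fun t =>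
    WeilExt.isRegularLocalRing_stalk_of_smooth qT (WeilExt.isRegularLocalRing_stalk_spec k) t
  haveI : LocallyOfFinitePresentation Φ := inferInstance
  haveI hΦs : Smooth Φ := smooth_of_equivariant Φ V₁ fun t => by
    obtain ⟨τ, hτ⟩ := exists_translate a htrans V₁ hV₁ne (Φ t)
    refine ⟨(Over.forget _).mapIso (whiskerRightIso (actIso (GrpSchField.mulAction G) τ) YY),
      actIsoLeft a τ, ?_, hτ⟩
    have e : (actIso (GrpSchField.mulAction G) τ).hom ▷ YY ≫ (G ◁ fO) ≫ a.act =
        ((G ◁ fO) ≫ a.act) ≫ (actIso a τ).hom := by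
      apply hom_ext_points₂
      intro T t y
      simp only [actIso, GrpSchField.mulAction, lift_whiskerRight_assoc, lift_whiskerLeft_assoc,
        comp_lift_assoc, Category.assoc, Category.comp_id]
      rw [← Hom.mul_def, act_mul]
      have e1 : ∀ {A : Over (Spec (CommRingCat.of k))} (u : T ⟶ A), u ≫ toUnit A ≫ τ = toUnit T ≫ τ :=
        fun u => by rw [← Category.assoc]; congr 1; exact Subsingleton.elim _ _
      rw [e1 t, ← Category.assoc (lift t (y ≫ fO)) a.act, e1]
    exact congrArg CommaMorphism.left e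
  haveI : SmoothOfRelativeDimension (r + d) (Φ ≫ X.hom) := by rw [hΦ]; infer_instance
  obtain ⟨hΦm, hnle⟩ := relDim_of_comp Φ X.hom n (r + d)
  haveI := hΦm
  -- the incidence scheme
  haveI hsndm : SmoothOfRelativeDimension (r + d - n) (pullback.snd Φ g) :=
    (smoothOfRelativeDimension_isStableUnderBaseChange _).of_isPullback
      (IsPullback.of_hasPullback Φ g) hΦm
  let qW : pullback Φ g ⟶ Spec (CommRingCat.of k) := pullback.snd Φ g ≫ g ≫ X.hom
  haveI : SmoothOfRelativeDimension ((r + d - n) + s) qW :=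
    inferInstanceAs (SmoothOfRelativeDimension ((r + d - n) + s) (_ ≫ _))
  haveI : Smooth qW := SmoothOfRelativeDimension.smooth ((r + d - n) + s) qW
  haveI : QuasiCompact qW := inferInstanceAs (QuasiCompact (pullback.snd Φ g ≫ g ≫ X.hom))
  let q : pullback Φ g ⟶ G.left := pullback.fst Φ g ≫ (fst G YY).left
  have hq : q ≫ G.hom = qW := by
    show (pullback.fst Φ g ≫ (fst G YY).left) ≫ G.hom = _
    rw [Category.assoc, show (fst G YY).left ≫ G.hom = qT from rfl, ← hΦ, pullback.condition_assoc]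
  haveI : LocallyOfFiniteType q := by
    haveI : LocallyOfFiniteType (q ≫ G.hom) := by rw [hq]; infer_instance
    exact locallyOfFiniteType_of_comp q G.hom
  haveI : QuasiCompact q := by
    haveI : QuasiCompact (q ≫ G.hom) := by rw [hq]; infer_instance
    exact QuasiCompact.of_comp q G.hom
  obtain ⟨V₀, hV₀ne, hV₀⟩ := exists_open_smooth_over q fun w =>
    WeilExt.isRegularLocalRing_stalk_of_smooth qW (WeilExt.isRegularLocalRing_stalk_spec k) w
  haveI := hV₀
  haveI : SmoothOfRelativeDimension (0 + d) (V₀.ι ≫ G.hom) := inferInstance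
  haveI : SmoothOfRelativeDimension (0 + ((r + d - n) + s)) ((q ∣_ V₀) ≫ V₀.ι ≫ G.hom) := by
    rw [← Category.assoc, morphismRestrict_ι, Category.assoc, hq]; infer_instance
  obtain ⟨hqe, hqle⟩ := relDim_of_comp (q ∣_ V₀) (V₀.ι ≫ G.hom) (0 + d) (0 + ((r + d - n) + s))
  haveI := hqe
  refine ⟨V₀, hV₀ne, fun σ hσ fσ hfσ => ?_⟩
  let j : Y ⟶ (G ⊗ YY).left := (lift (toUnit YY ≫ σ) (𝟙 YY)).left
  have hj : j ≫ Φ = fσ := by
    rw [hfσ]
    show ((lift (toUnit YY ≫ σ) (𝟙 YY)) ≫ (G ◁ fO) ≫ a.act).left = _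
    rw [lift_whiskerLeft_assoc, Category.id_comp]
  let p : pullback fσ g ⟶ pullback Φ g :=
    pullback.lift (pullback.fst fσ g ≫ j) (pullback.snd fσ g) (by rw [Category.assoc, hj, pullback.condition])
  have sqY : IsPullback p (pullback.fst fσ g) (pullback.fst Φ g) j := by
    refine IsPullback.of_right ?_ (pullback.lift_fst _ _ _) (IsPullback.of_hasPullback Φ g).flip
    rw [pullback.lift_snd, hj]
    exact (IsPullback.of_hasPullback fσ g).flip
  have hY : (toUnit YY).left = f ≫ X.hom :=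
    (Category.comp_id _).symm.trans (Over.w (toUnit YY))
  let π : pullback fσ g ⟶ Spec (CommRingCat.of k) := pullback.fst fσ g ≫ f ≫ X.hom
  have sqG : IsPullback p π q σ.left := by
    have := sqY.paste_vert (isPullback_point YY σ)
    rwa [hY] at this
  have hσ' : Set.range σ.left ⊆ Set.range V₀.ι := by rwa [Scheme.Opens.range_ι]
  have hp : Set.range p ⊆ Set.range (q ⁻¹ᵁ V₀).ι := by
    rw [Scheme.Opens.range_ι]
    rintro _ ⟨w, rfl⟩
    show q (p w) ∈ V₀
    rw [← Scheme.Hom.comp_apply, sqG.w, Scheme.Hom.comp_apply]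
    exact hσ ⟨_, rfl⟩
  let p' := IsOpenImmersion.lift (q ⁻¹ᵁ V₀).ι p hp
  let σ' := IsOpenImmersion.lift V₀.ι σ.left hσ'
  have hp' : p' ≫ (q ⁻¹ᵁ V₀).ι = p := IsOpenImmersion.lift_fac _ _ _
  have hσ'' : σ' ≫ V₀.ι = σ.left := IsOpenImmersion.lift_fac _ _ _
  have sqV : IsPullback p' π (q ∣_ V₀) σ' := by
    refine IsPullback.of_right ?_ ?_ (isPullback_morphismRestrict q V₀).flip
    · rw [hp', hσ'']; exact sqG
    · rw [← cancel_mono V₀.ι, Category.assoc, Category.assoc, morphismRestrict_ι, ← Category.assoc, hp',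
        hσ'']
      exact sqG.w
  haveI hπ : SmoothOfRelativeDimension (0 + ((r + d - n) + s) - (0 + d)) π :=
    (smoothOfRelativeDimension_isStableUnderBaseChange _).of_isPullback sqV hqe
  refine ⟨SmoothOfRelativeDimension.smooth (0 + ((r + d - n) + s) - (0 + d)) π, ?_⟩
  rcases isEmpty_or_nonempty ↥(pullback fσ g) with he | hne
  · exact Or.inl he
  · have z : ↥(pullback fσ g) := hne.some
    haveI := hne
    have h1 := hqle (p' z)
    have h2 := hnle (pullback.fst Φ g (p z))
    have h3 := dim_eq_of_smooth π (0 + ((r + d - n) + s) - (0 + d))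
    refine Or.inr ⟨by omega, ?_⟩
    rw [h3]
    norm_cast
    omega

end GrothLib.Transversal
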